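import Groth.Agent.Lefpen.H712.HT
import Groth.Agent.Sga7.H744.HcFun
import Groth.Agent.Etcore.HpullEq
import Groth.Prelude.Def_LefMon

/-!
# `HT` with constant coefficients

For a cartesian square `P = X ×_Y T` the group `HT f (const M) t q` is `H^q(P, M)` (`EP`), and the maps `rs` are the
pull-back maps `hc` (`EP_rs`).  `EtAdic.Hmap` is `hc` (`Hmap_eq_hc`).
-/

set_option autoImplicit false
universe u

open CategoryTheory CategoryTheory.Limits AlgebraicGeometry Opposite Abelian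
open scoped Groth.Agent.Etcore.EtInst
open Groth.Agent.Etcore.EtInst Groth.Agent.Etcore.HQ

namespace Groth.Agent.Lefpen.H704.GalHT

open Groth.Agent.Sga7.H744.HcFun Groth.Agent.Lefpen.H712.HT Groth.Agent.Etcore.PullCoh
open Groth.Agent.Etcore.HpullCalc

/-- `H^q(P, p⁻¹ M) ⟶ H^q(P, M)`. -/
noncomputable def E {P X : Scheme.{u}} (M : Type) [AddCommGroup M] (p : P ⟶ X) (q : ℕ) :
    HQ (EtCoh.const X M) p q →+ HH P (EtCoh.const P M) q :=
  HHmap (EtCore.pullConst p M).hom q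

theorem E_bijective {P X : Scheme.{u}} (M : Type) [AddCommGroup M] (p : P ⟶ X) (q : ℕ) :
    Function.Bijective (E M p q) :=
  HHmap_bijective _ q

theorem E_res {P P' X : Scheme.{u}} (M : Type) [AddCommGroup M] {p : P ⟶ X} {p' : P' ⟶ X} (g : P' ⟶ P)
    (h : g ≫ p = p') (q : ℕ) (x : HQ (EtCoh.const X M) p q) :
    E M p' q (res (EtCoh.const X M) g h q x) = hc g M q (E M p q x) := by
  unfold E
  rw [res_apply, hc_apply, hp_map, ← HHmap_comp, ← HHmap_comp, pullConst_comp g p p' h M]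

section EP

variable {X Y T P : Scheme.{u}} {f : X ⟶ Y} {t : T ⟶ Y} {p₁ : P ⟶ X} {p₂ : P ⟶ T}

/-- The comparison `HT f (const M) t q ⟶ H^q(P, M)` for a cartesian square. -/
noncomputable def EP (hP : IsPullback p₁ p₂ f t) (M : Type) [AddCommGroup M] (q : ℕ) :
    HT f (EtCoh.const X M) t q →+ HH P (EtCoh.const P M) q :=
  (hc hP.isoPullback.hom M q).comp (E M (pullback.fst f t) q)

theorem EP_apply (hP : IsPullback p₁ p₂ f t) (M : Type) [AddCommGroup M] (q : ℕ)
    (x : HT f (EtCoh.const X M) t q) :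
    EP hP M q x = hc hP.isoPullback.hom M q (E M (pullback.fst f t) q x) := rfl

theorem EP_bijective (hP : IsPullback p₁ p₂ f t) (M : Type) [AddCommGroup M] (q : ℕ) :
    Function.Bijective (EP hP M q) :=
  (bijective_hc hP.isoPullback.hom M q).comp (E_bijective M _ q)

variable {T' P' : Scheme.{u}} {t' : T' ⟶ Y} {p₁' : P' ⟶ X} {p₂' : P' ⟶ T'}

theorem EP_rs (hP : IsPullback p₁ p₂ f t) (hP' : IsPullback p₁' p₂' f t') (φ : T' ⟶ T) (h : φ ≫ t = t')
    (g : P' ⟶ P) (hg₁ : g ≫ p₁ = p₁') (hg₂ : g ≫ p₂ = p₂' ≫ φ) (M : Type) [AddCommGroup M] (q : ℕ)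
    (x : HT f (EtCoh.const X M) t q) :
    EP hP' M q (rs f (EtCoh.const X M) φ h q x) = hc g M q (EP hP M q x) := by
  rw [EP_apply, EP_apply]
  unfold rs
  rw [E_res]
  have h1 : hP'.isoPullback.hom ≫ bm f φ h = g ≫ hP.isoPullback.hom := by
    apply pullback.hom_ext
    · rw [Category.assoc, bm_fst, Category.assoc, IsPullback.isoPullback_hom_fst,
        IsPullback.isoPullback_hom_fst, hg₁]
    · rw [Category.assoc, bm_snd, Category.assoc, IsPullback.isoPullback_hom_snd, ← Category.assoc,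
        IsPullback.isoPullback_hom_snd, hg₂]
  rw [hc_comp' h1, hc_comp' rfl]

end EP

/-- `EtAdic.Hmap` in terms of `hc`. -/
theorem Hmap_eq_hc {X Y : Scheme.{u}} (ℓ : ℕ) (g : X ⟶ Y) (hg : PreservesFiniteLimits (EtCoh.pull g))
    (q ν : ℕ) (x : HH Y (EtCoh.const Y (ZMod (ℓ ^ ν))) q) :
    @Eq (HH X (EtCoh.const X (ZMod (ℓ ^ ν))) q) (EtAdic.Hmap ℓ g hg q ν x) (hc g (ZMod (ℓ ^ ν)) q x) := by
  rw [hc_apply, ← Hpull_apply_eq_hp]
  rfl

end Groth.Agent.Lefpen.H704.GalHT
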