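import Groth.Agent.Lefpen.H703.TransCrit
import Groth.Agent.VarietyA.SmoothReg
import Groth.Agent.CalgA.RegBasic
import Mathlib.RingTheory.KrullDimension.Regular

/-!
# Singular points of hypersurface sections, and the condition `OneOrdQuad`

`X` smooth of relative dimension `n` over an algebraically closed field `k`, embedded by `i`.

* `smoothAt_iff_isRegularLocalRing`: for `g : Y ⟶ Spec k` locally of finite type, `SmoothAt g y` iff the
  stalk at `y` is regular.
* `smoothAt_sec_iff`: at a closed point `y` of `X ∩ V(H)` at which the local equation `h` of `H` is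
  nonzero, the section is smooth at `y` iff `h ∉ 𝔪²`.
* `stalkEqn_eq_zero_iff`: `X` integral; the local equation vanishes at one point iff it does at every point.
* `setOf_smoothAt_eq_compl`: the smooth locus is the complement of a closed point `y` iff this holds for
  closed points.
* `oneOrdQuad_iff`: `X` irreducible, `n ≥ 1`: `OneOrdQuad k n i H` iff there is a point `y` of
  `X ∩ V(H)`, ordinary quadratic singularity, such that for all closed points `x` of `X` the local equation is
  in `𝔪_x²` iff `x` is the image of `y`.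
-/

set_option autoImplicit false
universe u

open CategoryTheory AlgebraicGeometry Limits TopologicalSpace Opposite

namespace Groth.Agent.Lefpen.H704.OneSing

open LefPen IsLocalRing Groth.Agent.Lefpen.H705.ClosedPoint Groth.Agent.Lefpen.H705.SecIdeal
open Groth.Agent.Lefpen.H703.ClosedSmooth Groth.Agent.Lefpen.H703.TransCrit

section General

variable {k : Type u} [Field k]

theorem locallyOfFinitePresentation_of_field {Y : Scheme.{u}} (g : Y ⟶ Spec (CommRingCat.of k))
    [LocallyOfFiniteType g] : LocallyOfFinitePresentation g :=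
  LocallyOfFinitePresentation.iff_locallyOfFiniteType.mpr inferInstance

/-- Over a perfect field, smoothness at a point is regularity of the local ring. -/
theorem smoothAt_iff_isRegularLocalRing [PerfectField k] {Y : Scheme.{u}}
    (g : Y ⟶ Spec (CommRingCat.of k)) [LocallyOfFiniteType g] (y : Y) :
    SmoothAt g y ↔ IsRegularLocalRing (Y.presheaf.stalk y) := by
  have : LocallyOfFinitePresentation g := locallyOfFinitePresentation_of_field g
  exact Groth.Agent.VarietyA.SmoothReg.mem_smoothLocus_iff_of_perfectField g y

/-- For a closed point `y`: the smooth locus is the complement of `y` iff this holds among closed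
points. -/
theorem setOf_smoothAt_eq_compl_iff {Y : Scheme.{u}}
    (g : Y ⟶ Spec (CommRingCat.of k)) [LocallyOfFiniteType g] (y : Y)
    (hy : IsClosed ({y} : Set Y)) :
    {y' | SmoothAt g y'} = ({y}ᶜ : Set Y) ↔
      ∀ y' : Y, IsClosed ({y'} : Set Y) → (SmoothAt g y' ↔ y' ≠ y) := by
  have : LocallyOfFinitePresentation g := locallyOfFinitePresentation_of_field g
  constructor
  · intro h y' _
    change y' ∈ {y' | SmoothAt g y'} ↔ _
    rw [h]
    rfl
  · intro h
    have hopen : IsOpen {y' | SmoothAt g y'} := g.isOpen_smoothLocus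
    have hU : IsOpen ({y' | SmoothAt g y'} ∪ {y' | SmoothAt g y'}) := hopen.union hopen
    refine Set.Subset.antisymm ?_ ?_
    · intro y' hy' hyy'
      rw [Set.mem_singleton_iff] at hyy'
      subst hyy'
      exact ((h y' hy).mp hy') rfl
    · -- the complement of the smooth locus is closed, all its closed points are `y`
      have hJ : JacobsonSpace Y := LocallyOfFiniteType.jacobsonSpace g
      have h1 : closure ({y' | SmoothAt g y'}ᶜ ∩ closedPoints Y) = {y' | SmoothAt g y'}ᶜ :=
        closure_inter_closedPoints hopen.isClosed_compl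
      have h2 : ({y' | SmoothAt g y'}ᶜ ∩ closedPoints Y) ⊆ {y} := by
        rintro z ⟨hz1, hz2⟩
        by_contra hne
        exact hz1 ((h z hz2).mpr hne)
      have h3 : {y' | SmoothAt g y'}ᶜ ⊆ {y} := by
        rw [← h1]
        exact hy.closure_subset_iff.mpr h2
      intro z hz
      by_contra hcon
      exact hz (h3 hcon)

end General

section Zero

variable {k : Type u} [Field k] {r d : ℕ} {X : Scheme.{u}} (i : X ⟶ CohB1.ProjSpace r k)

/-- On an integral scheme, vanishing of the local equation propagates. -/
theorem stalkEqn_eq_zero [IsIntegral X] (H : Form r k d) (x : X) (j : Fin (r + 1))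
    (hj : i x ∈ chart r k j) (h : stalkEqn i j x hj H = 0) (x' : X) (j' : Fin (r + 1))
    (hj' : i x' ∈ chart r k j') : stalkEqn i j' x' hj' H = 0 := by
  have hU : (i ⁻¹ᵁ chart r k j) ≤ i ⁻¹ᵁ chart r k j := le_rfl
  have hU' : (i ⁻¹ᵁ chart r k j') ≤ i ⁻¹ᵁ chart r k j' := le_rfl
  have h1 : eqn i j _ hU H = 0 := by
    apply AlgebraicGeometry.germ_injective_of_isIntegral X x (show x ∈ i ⁻¹ᵁ chart r k j from hj)
    rw [germ_eqn, h, map_zero]
  -- a point in the intersection
  obtain ⟨z, hz, hz'⟩ : ((i ⁻¹ᵁ chart r k j : Set X) ∩ (i ⁻¹ᵁ chart r k j' : Set X)).Nonempty :=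
    nonempty_preirreducible_inter (i ⁻¹ᵁ chart r k j).isOpen (i ⁻¹ᵁ chart r k j').isOpen
      ⟨x, hj⟩ ⟨x', hj'⟩
  have h2 : stalkEqn i j z hz H = 0 := by
    rw [← germ_eqn i j _ hU z hz H, h1, map_zero]
  have h3 := stalkIdeal_secIdeal i ({H} : Set (Form r k d)) j z hz
  have h4 := stalkIdeal_secIdeal i ({H} : Set (Form r k d)) j' z hz'
  rw [h3, Set.image_singleton, Set.image_singleton, h2] at h4
  have h5 : stalkEqn i j' z hz' H = 0 := by
    have : stalkEqn i j' z hz' H ∈ Ideal.span {stalkEqn i j' z hz' H} :=
      Ideal.mem_span_singleton_self _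
    rw [← h4] at this
    simpa using this
  have h6 : eqn i j' _ hU' H = 0 := by
    apply AlgebraicGeometry.germ_injective_of_isIntegral X z hz'
    rw [germ_eqn, h5, map_zero]
  rw [← germ_eqn i j' _ hU' x' hj' H, h6, map_zero]

end Zero

section Sec

variable {k : Type u} [Field k] [IsAlgClosed k] {r d : ℕ} {X : Scheme.{u}}
  (i : X ⟶ CohB1.ProjSpace r k) (n : ℕ) [SmoothOfRelativeDimension n (str i)]

include i n in
theorem isIntegral_of_smooth [IrreducibleSpace X] : IsIntegral X := by
  have hsm : Smooth (str i) := SmoothOfRelativeDimension.smooth n _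
  have : ∀ x : X, _root_.IsReduced (X.presheaf.stalk x) := by
    intro x
    have := isRegularLocalRing_stalk (str i) x
    have : IsDomain (X.presheaf.stalk x) := Groth.Agent.CalgA.RegBasic.isDomain _
    infer_instance
  have : IsReduced X := isReduced_of_isReduced_stalk X
  exact isIntegral_of_irreducibleSpace_of_isReduced X

/-- `section_regular_iff` for one form. -/
theorem section_one_regular_iff (H : Form r k d) (s : Set (Form r k d)) (hs : s = {H}) (y : Sec i s)
    (hy : IsClosed ({y} : Set (Sec i s))) (j : Fin (r + 1))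
    (hj : i (secι i s y) ∈ chart r k j) :
    (IsRegularLocalRing ((Sec i s).presheaf.stalk y) ∧
      ringKrullDim ((Sec i s).presheaf.stalk y) + 1 = n) ↔
      stalkEqn i j (secι i s y) hj H ∉ maximalIdeal (X.presheaf.stalk (secι i s y)) ^ 2 := by
  have hr : s = Set.range (fun _ : Fin 1 => H) := by rw [hs, Set.range_const]
  subst hr
  have h1 := section_regular_iff i n (fun _ : Fin 1 => H) y hy j hj
  rw [Nat.cast_one] at h1
  rw [h1]
  simp only [LinIndepAt, Fin.sum_univ_one]
  set x := secι i (Set.range fun _ : Fin 1 => H) y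
  constructor
  · intro h hmem
    have h1 := h (fun _ => 1) (by simpa using hmem)
    have h2 := congrFun h1 0
    exact one_ne_zero h2
  · intro hmem a ha
    by_contra hne
    apply hmem
    have ha0 : a 0 ≠ 0 := fun h0 => hne (funext fun l => by rw [Subsingleton.elim l 0]; exact h0)
    have h1 := Ideal.mul_mem_left (maximalIdeal (X.presheaf.stalk x) ^ 2) (toStalk k (str i) x (a 0)⁻¹) ha
    rwa [← mul_assoc, ← map_mul, inv_mul_cancel₀ ha0, map_one, one_mul] at h1

include n in
/-- At a closed point of the section at which the local equation is nonzero, smoothness is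
`h ∉ 𝔪²`. -/
theorem smoothAt_sec_iff (H : Form r k d) (y : Sec i ({H} : Set (Form r k d)))
    (hy : IsClosed ({y} : Set (Sec i ({H} : Set (Form r k d))))) (j : Fin (r + 1))
    (hj : i (secι i ({H} : Set (Form r k d)) y) ∈ chart r k j)
    (h0 : stalkEqn i j _ hj H ≠ 0) :
    SmoothAt (secToSpec i ({H} : Set (Form r k d))) y ↔
      stalkEqn i j _ hj H ∉ maximalIdeal (X.presheaf.stalk (secι i ({H} : Set (Form r k d)) y)) ^ 2 := by
  have hsm : Smooth (str i) := SmoothOfRelativeDimension.smooth n _
  have hlft : LocallyOfFiniteType (str i) := inferInstance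
  rw [smoothAt_iff_isRegularLocalRing, ← section_one_regular_iff i n H {H} rfl y hy j hj]
  refine ⟨fun h => ⟨h, ?_⟩, fun h => h.1⟩
  set x := secι i ({H} : Set (Form r k d)) y with hx
  have hxc : IsClosed ({x} : Set X) := isClosed_secι i _ hy
  have hreg : IsRegularLocalRing (X.presheaf.stalk x) := isRegularLocalRing_stalk (str i) x
  have hdom : IsDomain (X.presheaf.stalk x) := Groth.Agent.CalgA.RegBasic.isDomain _
  have hdim : ringKrullDim (X.presheaf.stalk x) = n := ringKrullDim_stalk (str i) n x hxc
  have hmem : stalkEqn i j x hj H ∈ maximalIdeal (X.presheaf.stalk x) :=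
    stalkEqn_mem i {H} y j hj H rfl
  have hker : RingHom.ker ((secι i ({H} : Set (Form r k d))).stalkMap y).hom =
      Ideal.span {stalkEqn i j x hj H} := by
    rw [ker_stalkMap_secι i _ y j hj, Set.image_singleton]
  have hsurj := stalkMap_secι_surjective i ({H} : Set (Form r k d)) y
  let e : (X.presheaf.stalk x ⧸ Ideal.span {stalkEqn i j x hj H}) ≃+*
      (Sec i ({H} : Set (Form r k d))).presheaf.stalk y :=
    (Ideal.quotEquivOfEq hker.symm).trans (RingHom.quotientKerEquivOfSurjective hsurj)
  rw [← ringKrullDim_eq_of_ringEquiv e, ← hdim]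
  exact ringKrullDim_quotient_span_singleton_succ_eq_ringKrullDim_of_mem_nonZeroDivisors
    (mem_nonZeroDivisors_of_ne_zero h0) hmem

include n in
/-- If the local equation of `H` is zero at one point, the section is smooth at all its points. -/
theorem smoothAt_of_stalkEqn_eq_zero (H : Form r k d) (y : Sec i ({H} : Set (Form r k d)))
    (j : Fin (r + 1)) (hj : i (secι i ({H} : Set (Form r k d)) y) ∈ chart r k j)
    (h0 : stalkEqn i j _ hj H = 0) :
    SmoothAt (secToSpec i ({H} : Set (Form r k d))) y := by
  have hsm : Smooth (str i) := SmoothOfRelativeDimension.smooth n _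
  have hlft : LocallyOfFiniteType (str i) := inferInstance
  rw [smoothAt_iff_isRegularLocalRing]
  set x := secι i ({H} : Set (Form r k d)) y with hx
  have hreg : IsRegularLocalRing (X.presheaf.stalk x) := isRegularLocalRing_stalk (str i) x
  have hker : RingHom.ker ((secι i ({H} : Set (Form r k d))).stalkMap y).hom = ⊥ := by
    rw [ker_stalkMap_secι i _ y j hj, Set.image_singleton, h0]
    simp
  have hsurj := stalkMap_secι_surjective i ({H} : Set (Form r k d)) y
  exact IsRegularLocalRing.of_ringEquiv
    (RingEquiv.ofBijective ((secι i ({H} : Set (Form r k d))).stalkMap y).hom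
      ⟨(RingHom.injective_iff_ker_eq_bot _).mpr hker, hsurj⟩)

include i n in
/-- An irreducible `X` smooth of relative dimension `n ≥ 1` has more than one closed point. -/
theorem exists_closed_ne (hn : 1 ≤ n) (x : X) (hx : IsClosed ({x} : Set X)) :
    ∃ x' : X, IsClosed ({x'} : Set X) ∧ x' ≠ x := by
  by_contra hcon
  push Not at hcon
  have hsm : Smooth (str i) := SmoothOfRelativeDimension.smooth n _
  have hlft : LocallyOfFiniteType (str i) := inferInstance
  have hJ : JacobsonSpace X := LocallyOfFiniteType.jacobsonSpace (str i)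
  have h1 : closure (Set.univ ∩ closedPoints X) = Set.univ :=
    closure_inter_closedPoints isClosed_univ
  have h2 : (Set.univ : Set X) ⊆ {x} := by
    rw [← h1]
    refine hx.closure_subset_iff.mpr ?_
    rintro z ⟨-, hz⟩
    exact hcon z hz
  have h3 : Subsingleton X := by
    rw [← Set.subsingleton_univ_iff]
    exact Set.subsingleton_singleton.anti h2
  have h4 := ringKrullDim_stalk (str i) n x hx
  have h5 : topologicalKrullDim X ≤ 0 := topologicalKrullDim_zero_of_discreteTopology X
  have h6 := Groth.Agent.VarietyA.SmoothReg.ringKrullDim_stalk_le X x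
  rw [h4] at h6
  have h7 : ((n : ℕ) : WithBot ℕ∞) ≤ 0 := h6.trans h5
  have h8 : n ≤ 0 := by exact_mod_cast h7
  omega

/-- **The condition `OneOrdQuad` in terms of local equations at closed points.** -/
theorem oneOrdQuad_iff [IrreducibleSpace X] (hn : 1 ≤ n) (H : Form r k d) :
    OneOrdQuad k n i H ↔ ∃ y : Sec i ({H} : Set (Form r k d)),
      IsOrdQuadSing k (n - 1) (secToSpec i ({H} : Set (Form r k d))) y ∧
      ∀ x : X, IsClosed ({x} : Set X) → ∀ (j : Fin (r + 1)) (hj : i x ∈ chart r k j),
        (stalkEqn i j x hj H ∈ maximalIdeal (X.presheaf.stalk x) ^ 2 ↔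
          x = secι i ({H} : Set (Form r k d)) y) := by
  have hint : IsIntegral X := isIntegral_of_smooth i n
  have hsm : Smooth (str i) := SmoothOfRelativeDimension.smooth n _
  have hlft : LocallyOfFiniteType (str i) := inferInstance
  constructor
  · rintro ⟨y, hy1, hy2⟩
    refine ⟨y, hy2, ?_⟩
    have hyc : IsClosed ({y} : Set (Sec i ({H} : Set (Form r k d)))) := hy2.1
    have hns : ¬ SmoothAt (secToSpec i ({H} : Set (Form r k d))) y := by
      intro h
      have : y ∈ ({y}ᶜ : Set (Sec i ({H} : Set (Form r k d)))) := by rw [← hy1]; exact h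
      exact this rfl
    obtain ⟨j₀, hj₀⟩ := Groth.Agent.PerfB.ProjSpaceCover.exists_mem_basicOpen_X r k
      (i (secι i ({H} : Set (Form r k d)) y))
    -- the local equations are nonzero everywhere
    have hne : ∀ (x : X) (j : Fin (r + 1)) (hj : i x ∈ chart r k j), stalkEqn i j x hj H ≠ 0 := by
      intro x j hj h0
      exact hns (smoothAt_of_stalkEqn_eq_zero i n H y j₀ hj₀
        (stalkEqn_eq_zero i H x j hj h0 _ j₀ hj₀))
    intro x hx j hj
    constructor
    · intro hmem
      obtain ⟨y', rfl⟩ := exists_sec_point i ({H} : Set (Form r k d)) j x hj (by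
        rintro G rfl
        exact Ideal.pow_le_self two_ne_zero hmem)
      have hy' := isClosed_of_secι i _ hx
      have h1 : ¬ SmoothAt (secToSpec i ({H} : Set (Form r k d))) y' := by
        rw [smoothAt_sec_iff i n H y' hy' j hj (hne _ j hj)]
        exact fun h => h hmem
      have h2 : y' ∉ ({y}ᶜ : Set (Sec i ({H} : Set (Form r k d)))) := by
        rw [← hy1]
        exact h1
      rw [Set.mem_compl_iff, not_not, Set.mem_singleton_iff] at h2
      rw [h2]
    · rintro rfl
      by_contra hmem
      exact hns ((smoothAt_sec_iff i n H y hyc j hj (hne _ j hj)).mpr hmem)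
  · rintro ⟨y, hy1, hy2⟩
    refine ⟨y, ?_, hy1⟩
    have hyc : IsClosed ({y} : Set (Sec i ({H} : Set (Form r k d)))) := hy1.1
    rw [setOf_smoothAt_eq_compl_iff _ y hyc]
    -- the local equations are nonzero everywhere
    have hne : ∀ (x : X) (j : Fin (r + 1)) (hj : i x ∈ chart r k j), stalkEqn i j x hj H ≠ 0 := by
      intro x j hj h0
      obtain ⟨x', hx', hne⟩ := exists_closed_ne i n hn _ (isClosed_secι i _ hyc)
      obtain ⟨j', hj'⟩ := Groth.Agent.PerfB.ProjSpaceCover.exists_mem_basicOpen_X r k (i x')
      apply hne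
      rw [← hy2 x' hx' j' hj', stalkEqn_eq_zero i H x j hj h0 x' j' hj']
      exact Ideal.zero_mem _
    intro y' hy'
    obtain ⟨j, hj⟩ := Groth.Agent.PerfB.ProjSpaceCover.exists_mem_basicOpen_X r k
      (i (secι i ({H} : Set (Form r k d)) y'))
    rw [smoothAt_sec_iff i n H y' hy' j hj (hne _ j hj), hy2 _ (isClosed_secι i _ hy') j hj]
    constructor
    · intro h hyy
      exact h (by rw [hyy])
    · intro h hyy
      exact h ((secι i ({H} : Set (Form r k d))).isClosedEmbedding.injective hyy)

end Sec

end Groth.Agent.Lefpen.H704.OneSing
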