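import Groth.Prelude.Def_LefPen

/-!
# Scaling invariance of hypersurface sections

`hypIdeal (c • G) = hypIdeal G` for `c ≠ 0`, hence `secIdeal`, `Transversal`, `OneOrdQuad` are invariant.
-/

set_option autoImplicit false

universe u

open CategoryTheory CategoryTheory.Limits AlgebraicGeometry

namespace Groth.Agent.Lefpen.H704.Scale

open LefPen

variable {r : ℕ} {k : Type u} [Field k]

/-- The element `G / T_i^d` of the degree zero part of the localization. -/
noncomputable def frac {d : ℕ} (G : Form r k d) (i : Fin (r + 1)) :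
    HomogeneousLocalization.Away (CohB1.polyGrading r k) (MvPolynomial.X i) :=
  HomogeneousLocalization.Away.mk (CohB1.polyGrading r k) (X_mem r k i) d G.1
    (by rw [smul_eq_mul, mul_one]; exact G.2)

theorem dehom_eq {d : ℕ} (G : Form r k d) (i : Fin (r + 1)) :
    dehom G i = (Proj.awayToSection (CohB1.polyGrading r k) (MvPolynomial.X i)).hom (frac G i) := rfl

theorem frac_add {d : ℕ} (F G : Form r k d) (i : Fin (r + 1)) :
    frac (F + G) i = frac F i + frac G i := by
  unfold frac
  apply HomogeneousLocalization.val_injective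
  simp only [HomogeneousLocalization.val_add, HomogeneousLocalization.Away.val_mk]
  rw [Localization.add_mk_self]
  rfl

theorem dehom_add {d : ℕ} (F G : Form r k d) (i : Fin (r + 1)) :
    dehom (F + G) i = dehom F i + dehom G i := by
  exact (congrArg (Proj.awayToSection (CohB1.polyGrading r k) (MvPolynomial.X i)).hom
    (frac_add F G i)).trans (map_add _ _ _)

/-- The constant `c`, in the degree zero localization. -/
noncomputable def constFrac (c : k) (i : Fin (r + 1)) :
    HomogeneousLocalization.Away (CohB1.polyGrading r k) (MvPolynomial.X i) :=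
  HomogeneousLocalization.Away.mk (CohB1.polyGrading r k) (X_mem r k i) 0 (MvPolynomial.C c)
      (by rw [zero_smul]; exact (MvPolynomial.mem_homogeneousSubmodule 0 _).mpr
            (MvPolynomial.isHomogeneous_C _ c))

/-- The constant `c`, as a regular function on the chart. -/
noncomputable def constFun (c : k) (i : Fin (r + 1)) : Γ(CohB1.ProjSpace r k, chart r k i) :=
  (Proj.awayToSection (CohB1.polyGrading r k) (MvPolynomial.X i)).hom (constFrac c i)

theorem frac_smul {d : ℕ} (c : k) (G : Form r k d) (i : Fin (r + 1)) :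
    frac (c • G) i = constFrac c i * frac G i := by
  unfold frac constFrac
  apply HomogeneousLocalization.val_injective
  simp only [HomogeneousLocalization.val_mul, HomogeneousLocalization.Away.val_mk]
  rw [Localization.mk_mul]
  congr 1
  · rw [← MvPolynomial.smul_eq_C_mul]
    rfl
  · apply Subtype.ext
    simp

theorem dehom_smul {d : ℕ} (c : k) (G : Form r k d) (i : Fin (r + 1)) :
    dehom (c • G) i = constFun c i * dehom G i := by
  exact (congrArg (Proj.awayToSection (CohB1.polyGrading r k) (MvPolynomial.X i)).hom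
    (frac_smul c G i)).trans (map_mul _ _ _)

theorem hypFamily_le_of_smul {d : ℕ} (c : k) (G : Form r k d)
    (U : (CohB1.ProjSpace r k).affineOpens) : hypFamily (c • G) U ≤ hypFamily G U := by
  unfold hypFamily
  refine iInf_mono fun i => Ideal.comap_mono ?_
  rw [Ideal.span_singleton_le_iff_mem, dehom_smul, map_mul]
  exact Ideal.mul_mem_left _ _ (Ideal.mem_span_singleton_self _)

theorem hypFamily_smul {d : ℕ} {c : k} (hc : c ≠ 0) (G : Form r k d) :
    hypFamily (c • G) = hypFamily G := by
  funext U
  refine le_antisymm (hypFamily_le_of_smul c G U) ?_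
  have := hypFamily_le_of_smul c⁻¹ (c • G) U
  rwa [smul_smul, inv_mul_cancel₀ hc, one_smul] at this

theorem hypIdeal_smul {d : ℕ} {c : k} (hc : c ≠ 0) (G : Form r k d) :
    hypIdeal (c • G) = hypIdeal G := by
  unfold hypIdeal
  rw [hypFamily_smul hc]

theorem secIdeal_smul {X : Scheme.{u}} (i : X ⟶ CohB1.ProjSpace r k) {d : ℕ} {c : k} (hc : c ≠ 0)
    (G : Form r k d) : secIdeal i {c • G} = secIdeal i {G} := by
  unfold secIdeal
  simp only [Set.mem_singleton_iff, iSup_iSup_eq_left, hypIdeal_smul hc]

theorem secIdeal_pair {X : Scheme.{u}} (i : X ⟶ CohB1.ProjSpace r k) {d : ℕ} (F G : Form r k d) :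
    secIdeal i {F, G} = (hypIdeal F ⊔ hypIdeal G).comap i := by
  unfold secIdeal
  congr 1
  rw [iSup_insert, iSup_singleton]

theorem secIdeal_pair_smul {X : Scheme.{u}} (i : X ⟶ CohB1.ProjSpace r k) {d : ℕ} {a b : k}
    (ha : a ≠ 0) (hb : b ≠ 0) (F G : Form r k d) :
    secIdeal i {a • F, b • G} = secIdeal i {F, G} := by
  rw [secIdeal_pair, secIdeal_pair, hypIdeal_smul ha, hypIdeal_smul hb]

theorem transversal_smul_iff {X : Scheme.{u}} (i : X ⟶ CohB1.ProjSpace r k) (n e : ℕ) {d : ℕ} {c : k}
    (hc : c ≠ 0) (H : Form r k d) :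
    Transversal k n e (secToSpec i {c • H}) ↔ Transversal k n e (secToSpec i {H}) := by
  let P : X.IdealSheafData → Prop := fun I =>
    Transversal k n e (I.subschemeι ≫ i ≫ CohB1.ProjSpace.toSpec r k)
  change P (secIdeal i {c • H}) ↔ P (secIdeal i {H})
  rw [secIdeal_smul i hc]

theorem oneOrdQuad_smul_iff {X : Scheme.{u}} (i : X ⟶ CohB1.ProjSpace r k) (n : ℕ) {d : ℕ} {c : k}
    (hc : c ≠ 0) (H : Form r k d) :
    OneOrdQuad k n i (c • H) ↔ OneOrdQuad k n i H := by
  let P : X.IdealSheafData → Prop := fun I =>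
    ∃ y : I.subscheme, {y' | SmoothAt (I.subschemeι ≫ i ≫ CohB1.ProjSpace.toSpec r k) y'} =
        ({y}ᶜ : Set I.subscheme) ∧
      IsOrdQuadSing k (n - 1) (I.subschemeι ≫ i ≫ CohB1.ProjSpace.toSpec r k) y
  change P (secIdeal i {c • H}) ↔ P (secIdeal i {H})
  rw [secIdeal_smul i hc]

end Groth.Agent.Lefpen.H704.Scale
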