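import Groth.Agent.Lefpen.H704.Cone
import Groth.Agent.Lefpen.H704.Scale
import Groth.Agent.Lefpen.H703.Assembly
import Groth.Agent.Lefpen.H703.NondegOpen
import Groth.Agent.Lefpen.H708.Bertini2

/-!
# Assembly of S4022

A general pencil through a transversal member is a Lefschetz pencil, given that transversality is open and
that the ordinary quadratic condition is relatively open in the dual variety.
-/

set_option autoImplicit false

universe u

open CategoryTheory CategoryTheory.Limits AlgebraicGeometry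

namespace Groth.Agent.Lefpen.H704.Assembly

open LefPen IsLocalRing Groth.Agent.Lefpen.H704 Groth.Agent.Lefpen.H705.SecIdeal
open Groth.Agent.Lefpen.H703.TransCrit Groth.Agent.Lefpen.H703.ClosedSmooth

variable {k : Type u} [Field k]

section Lin

variable {V : Type u} [AddCommGroup V] [Module k V]

/-- If a linearly independent pair exists, then for a nonzero `H₀` the generic `G` is independent of `H₀`. -/
theorem isGeneric_linearIndependent {F G : V} (hFG : LinearIndependent k ![F, G]) {H₀ : V}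
    (hH : H₀ ≠ 0) : IsGeneric k {G : V | LinearIndependent k ![H₀, G]} := by
  obtain ⟨v, hv⟩ : ∃ v : V, v ∉ Submodule.span k {H₀} := by
    by_contra hcon
    push Not at hcon
    obtain ⟨a, ha⟩ := Submodule.mem_span_singleton.mp (hcon F)
    obtain ⟨b, hb⟩ := Submodule.mem_span_singleton.mp (hcon G)
    have h1 := LinearIndependent.pair_iff.mp hFG b (-a) (by
      rw [← ha, ← hb, smul_smul, neg_smul, smul_smul, mul_comm]
      exact add_neg_cancel _)
    have ha0 : a = 0 := by simpa using h1.2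
    have hF : F = 0 := by rw [← ha, ha0, zero_smul]
    exact hFG.ne_zero 0 hF
  obtain ⟨l, hl, hlv⟩ := Submodule.exists_le_ker_of_notMem hv
  have hl0 : l H₀ = 0 := by
    have := hlv (Submodule.mem_span_singleton_self H₀)
    simpa using this
  refine ⟨fun G => l G, PolyFun.isPolyFun_dual l, ⟨v, hl⟩, ?_⟩
  intro G hG
  change LinearIndependent k ![H₀, G]
  rw [LinearIndependent.pair_iff]
  intro s t hst
  have h1 : s * l H₀ + t * l G = 0 := by
    have := congrArg l hst
    simpa using this
  rw [hl0, mul_zero, zero_add] at h1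
  have ht : t = 0 := (mul_eq_zero.mp h1).resolve_right hG
  rw [ht, zero_smul, add_zero, smul_eq_zero] at hst
  exact ⟨hst.resolve_right hH, ht⟩

end Lin

theorem dehom_zero {r : ℕ} {d : ℕ} (j : Fin (r + 1)) : dehom (0 : Form r k d) j = 0 := by
  have h := Scale.dehom_add (0 : Form r k d) 0 j
  rw [add_zero] at h
  exact left_eq_add.mp h

theorem stalkEqn_zero {r : ℕ} {d : ℕ} {X : Scheme.{u}} (i : X ⟶ CohB1.ProjSpace r k) (j : Fin (r + 1))
    (x : X) (hx : i x ∈ chart r k j) : stalkEqn i j x hx (0 : Form r k d) = 0 := by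
  rw [stalkEqn, dehom_zero, map_zero, map_zero]

/-- The zero form is not transversal. -/
theorem ne_zero_of_transversal [IsAlgClosed k] {r : ℕ} {n d : ℕ} {X : Scheme.{u}} [Nonempty X]
    (i : X ⟶ CohB1.ProjSpace r k)
    [SmoothOfRelativeDimension n (i ≫ CohB1.ProjSpace.toSpec r k)] (H₀ : Form r k d)
    (hH₀ : Transversal k n 1 (secToSpec i ({H₀} : Set (Form r k d)))) : H₀ ≠ 0 := by
  rintro rfl
  have hsm : Smooth (str i) := SmoothOfRelativeDimension.smooth n _
  have hlft : LocallyOfFiniteType (str i) := inferInstance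
  have h1 := (transversal_one_iff i n (0 : Form r k d)).mp hH₀
  have hemp : IsEmpty X := by
    apply isEmpty_of_no_closed (str i)
    intro z hz
    obtain ⟨j, hj⟩ := Groth.Agent.PerfB.ProjSpaceCover.exists_mem_basicOpen_X r k (i z)
    apply h1 z hz j hj
    rw [stalkEqn_zero]
    exact Ideal.zero_mem _
  exact hemp.false (Classical.arbitrary X)

/-- The assembly of S4022. -/
theorem isGeneric_isLefschetzPencil_through_of [IsAlgClosed k] {r : ℕ} {n d : ℕ} (hn : 1 ≤ n)
    (hd : 1 ≤ d) {X : Scheme.{u}} [Nonempty X]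
    (i : X ⟶ CohB1.ProjSpace r k) [IsClosedImmersion i]
    [SmoothOfRelativeDimension n (i ≫ CohB1.ProjSpace.toSpec r k)]
    (h1 : IsZOpen k {H : Form r k d | Transversal k n 1 (secToSpec i {H})})
    (h3 : ∀ H₀ : Form r k d, OneOrdQuad k n i H₀ → ∃ f : Form r k d → k, IsPolyFun k f ∧ f H₀ ≠ 0 ∧
      ∀ H : Form r k d, ¬ Transversal k n 1 (secToSpec i ({H} : Set (Form r k d))) → f H ≠ 0 →
        OneOrdQuad k n i H)
    (hL : IsLefschetzEmb k n i d) (H₀ : Form r k d)
    (hH₀ : Transversal k n 1 (secToSpec i ({H₀} : Set (Form r k d)))) :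
    IsGeneric k {G : Form r k d | IsLefschetzPencil k n i d H₀ G} := by
  have hinf : Infinite k := IsAlgClosed.instInfinite
  -- the bad forms
  let B : Set (Form r k d) := {H | ¬ Transversal k n 1 (secToSpec i ({H} : Set (Form r k d))) ∧
      ¬ OneOrdQuad k n i H}
  have hB : IsZOpen k Bᶜ := by
    have h4 := H703.Assembly.isZOpen_good i h1 h3
    have h5 : Bᶜ = {H : Form r k d | ¬ Transversal k n 1 (secToSpec i ({H} : Set (Form r k d))) →
      OneOrdQuad k n i H} := by
      ext H
      simp only [B, Set.mem_compl_iff, Set.mem_ofPred_eq, not_and, not_not]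
    rw [h5]
    exact h4
  have hcone : ∀ c : k, c ≠ 0 → ∀ x ∈ B, c • x ∈ B := by
    rintro c hc x ⟨hx1, hx2⟩
    refine ⟨?_, ?_⟩
    · rwa [Scale.transversal_smul_iff i n 1 hc]
    · rwa [Scale.oneOrdQuad_smul_iff i n hc]
  have h0 : H₀ ∉ B := fun h => h.1 hH₀
  have hgen : IsGeneric k {FG : Form r k d × Form r k d | ∀ c : k, FG.1 + c • FG.2 ∉ B} := by
    refine PolyFun.isGeneric_mono ?_ hL
    rintro ⟨F, G⟩ ⟨-, -, -, h⟩ c ⟨hc1, hc2⟩
    exact hc2 (h _ (Or.inr ⟨c, rfl⟩) hc1)
  have hli : IsGeneric k {G : Form r k d | LinearIndependent k ![H₀, G]} := by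
    obtain ⟨⟨F, G⟩, hFG⟩ := PolyFun.isGeneric_nonempty hL
    exact isGeneric_linearIndependent (F := F) (G := G) hFG.1 (ne_zero_of_transversal i H₀ hH₀)
  have h6 := PolyFun.isGeneric_inter hli (PolyFun.isGeneric_inter
    (H708.Bertini2.isGeneric_transversal_two i n hn hd H₀ hH₀)
    (Cone.cone_generic_pencil B hB hcone H₀ h0 hgen))
  refine PolyFun.isGeneric_mono ?_ h6
  rintro G ⟨g1, g2, g3, g4⟩
  refine ⟨g1, g2, PolyFun.finite_line_of_isZOpen h1 hH₀ G, ?_⟩
  rintro H (hH | ⟨c, hc⟩) hnt
  · rw [Set.mem_singleton_iff] at hH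
    subst hH
    by_contra hcon
    exact g3 ⟨hnt, hcon⟩
  · subst hc
    by_contra hcon
    exact g4 c ⟨hnt, hcon⟩

end Groth.Agent.Lefpen.H704.Assembly
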