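import Mathlib.RingTheory.Polynomial.UniqueFactorization
import Mathlib.RingTheory.Ideal.GoingUp
import Mathlib.RingTheory.AdjoinRoot

/-!
# A dichotomy for ideals of `R[t]` containing a polynomial with unit leading coefficient

`R` a UFD, `I` an ideal of `R[t]` containing an `F` with unit leading coefficient.  Then either
`I` contains a nonzero constant `c ∈ R`, or `I` is contained in a principal prime ideal `(f)`
with `f` dividing `F` (so `f` has unit leading coefficient and is not a constant).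
-/

set_option autoImplicit false

open Polynomial

namespace Groth.Agent.Lefpen.H704.Dichotomy

variable {R : Type*} [CommRing R] [IsDomain R]

/-- For a prime `f` with unit leading coefficient and `g` not divisible by `f`, the ideal `(f, g)`
contains a nonzero constant. -/
theorem exists_const_of_not_dvd_of_monic {f : R[X]} (hf : Prime f) (hu : f.Monic)
    {g : R[X]} (hg : ¬ f ∣ g) : ∃ (c : R), c ≠ 0 ∧ C c ∈ Ideal.span {f, g} := by
  have : Fact (Prime f) := ⟨hf⟩
  have hdom : IsDomain (AdjoinRoot f) := AdjoinRoot.isDomain_of_prime hf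
  have hne : AdjoinRoot.mk f g ≠ 0 := by
    rw [Ne, AdjoinRoot.mk_eq_zero]; exact hg
  have hint : IsIntegral R (AdjoinRoot.mk f g) := by
    have : Module.Finite R (AdjoinRoot f) := hu.finite_adjoinRoot
    exact Algebra.IsIntegral.isIntegral _
  have := Ideal.comap_ne_bot_of_integral_mem (I := Ideal.span {AdjoinRoot.mk f g}) hne
    (Ideal.mem_span_singleton_self _) hint
  obtain ⟨c, hc, hc0⟩ := Submodule.exists_mem_ne_zero_of_ne_bot this
  refine ⟨c, hc0, ?_⟩
  rw [Ideal.mem_comap, Ideal.mem_span_singleton'] at hc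
  obtain ⟨a, ha⟩ := hc
  obtain ⟨a, rfl⟩ := AdjoinRoot.mk_surjective a
  rw [← map_mul, AdjoinRoot.algebraMap_eq, ← AdjoinRoot.mk_C, ← sub_eq_zero, ← map_sub,
    AdjoinRoot.mk_eq_zero] at ha
  rw [Ideal.mem_span_pair]
  obtain ⟨b, hb⟩ := ha
  exact ⟨-b, a, by linear_combination hb⟩

theorem exists_const_of_not_dvd {f : R[X]} (hf : Prime f) (hu : IsUnit f.leadingCoeff)
    {g : R[X]} (hg : ¬ f ∣ g) : ∃ (c : R), c ≠ 0 ∧ C c ∈ Ideal.span {f, g} := by
  obtain ⟨u, hu⟩ := hu
  have hmon : (C (↑u⁻¹ : R) * f).Monic := by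
    rw [Polynomial.Monic, Polynomial.leadingCoeff_mul, ← hu]
    simp
  have hassoc : Associated f (C (↑u⁻¹ : R) * f) := by
    rw [mul_comm]
    exact associated_mul_unit_right _ _ (Polynomial.isUnit_C.mpr (Units.isUnit _))
  obtain ⟨c, hc, hc'⟩ := exists_const_of_not_dvd_of_monic (hassoc.prime hf) hmon (g := g)
    (by rwa [← hassoc.dvd_iff_dvd_left])
  refine ⟨c, hc, ?_⟩
  refine (Ideal.span_le.mpr ?_) hc'
  rintro x (rfl | rfl)
  · exact Ideal.mul_mem_left _ _ (Ideal.subset_span (by simp))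
  · exact Ideal.subset_span (by simp)

/-- The multiset version. -/
theorem exists_const_prod (I : Ideal R[X]) (s : Multiset R[X])
    (hs : ∀ f ∈ s, Prime f ∧ IsUnit f.leadingCoeff ∧ ¬ I ≤ Ideal.span {f}) :
    ∃ c : R, c ≠ 0 ∧ C c ∈ Ideal.span {s.prod} ⊔ I := by
  induction s using Multiset.induction_on with
  | empty =>
    refine ⟨1, one_ne_zero, ?_⟩
    simp
  | cons f s ih =>
    obtain ⟨c₁, hc₁, h₁⟩ := ih (fun g hg => hs g (Multiset.mem_cons_of_mem hg))
    obtain ⟨hp, hu, hI⟩ := hs f (Multiset.mem_cons_self f s)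
    obtain ⟨g, hg, hgf⟩ := SetLike.not_le_iff_exists.mp hI
    rw [Ideal.mem_span_singleton] at hgf
    obtain ⟨c₂, hc₂, h₂⟩ := exists_const_of_not_dvd hp hu hgf
    refine ⟨c₁ * c₂, mul_ne_zero hc₁ hc₂, ?_⟩
    rw [Ideal.mem_span_pair] at h₂
    obtain ⟨a, b, hab⟩ := h₂
    rw [Submodule.mem_sup] at h₁
    obtain ⟨y, hy, z, hz, hyz⟩ := h₁
    rw [Ideal.mem_span_singleton'] at hy
    obtain ⟨y', rfl⟩ := hy
    have : C (c₁ * c₂) = (y' * a) * (f ::ₘ s).prod + (z * (a * f) + (b * C c₁) * g) := by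
      rw [Multiset.prod_cons, C_mul, ← hyz, ← hab]
      ring
    rw [this]
    refine Submodule.add_mem_sup (Ideal.mul_mem_left _ _ (Ideal.mem_span_singleton_self _)) ?_
    exact I.add_mem (I.mul_mem_right _ hz) (I.mul_mem_left _ hg)

/-- The dichotomy. -/
theorem dichotomy [UniqueFactorizationMonoid R] (I : Ideal R[X]) (F : R[X]) (hF : F ∈ I)
    (hmon : IsUnit F.leadingCoeff) :
    (∃ c : R, c ≠ 0 ∧ C c ∈ I) ∨
      ∃ f : R[X], Prime f ∧ IsUnit f.leadingCoeff ∧ f ∣ F ∧ I ≤ Ideal.span {f} := by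
  classical
  by_cases h : ∃ f : R[X], Prime f ∧ IsUnit f.leadingCoeff ∧ f ∣ F ∧ I ≤ Ideal.span {f}
  · exact Or.inr h
  left
  have hF0 : F ≠ 0 := by
    rintro rfl
    simp at hmon
  obtain ⟨s, hs, hassoc⟩ := UniqueFactorizationMonoid.exists_prime_factors F hF0
  obtain ⟨c, hc, hc'⟩ := exists_const_prod I s (by
    intro f hf
    have hdvd : f ∣ F := (Multiset.dvd_prod hf).trans hassoc.dvd
    have hu : IsUnit f.leadingCoeff := by
      obtain ⟨q, hq⟩ := hdvd
      rw [hq, Polynomial.leadingCoeff_mul] at hmon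
      exact isUnit_of_mul_isUnit_left hmon
    refine ⟨hs f hf, hu, fun hI => h ⟨f, hs f hf, hu, hdvd, hI⟩⟩)
  refine ⟨c, hc, ?_⟩
  have hle : Ideal.span {s.prod} ≤ I := by
    rw [Ideal.span_singleton_le_iff_mem]
    obtain ⟨u, hu⟩ := hassoc.symm
    rw [← hu]
    exact I.mul_mem_right _ hF
  rwa [sup_eq_right.mpr hle] at hc'

omit [IsDomain R] in
/-- A prime polynomial over a domain with unit leading coefficient is not a constant. -/
theorem natDegree_pos {f : R[X]} (hf : Prime f) (hu : IsUnit f.leadingCoeff) :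
    0 < f.natDegree := by
  rw [Nat.pos_iff_ne_zero]
  intro h
  obtain ⟨a, rfl⟩ := Polynomial.natDegree_eq_zero.mp h
  rw [Polynomial.leadingCoeff_C] at hu
  exact hf.not_isUnit (Polynomial.isUnit_C.mpr hu)

end Groth.Agent.Lefpen.H704.Dichotomy
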