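import Groth.Agent.Lefpen.H704.PolyFun
import Groth.Agent.Lefpen.H704.Dichotomy
import Mathlib.Algebra.MvPolynomial.Equiv
import Mathlib.RingTheory.MvPolynomial.Homogeneous
import Mathlib.LinearAlgebra.Basis.Fin
import Mathlib.FieldTheory.IsAlgClosed.Basic
import Mathlib.RingTheory.Polynomial.UniqueFactorization

/-!
# The cone lemma

`k` algebraically closed, `V` a finite-dimensional vector space, `B ⊆ V` Zariski closed and stable
under nonzero scalars.  If for a generic pair `(F, G)` no `F + c G` lies in `B` then, for every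
`H₀ ∉ B`, for generic `G` no `G + c H₀` lies in `B`.
-/

set_option autoImplicit false
set_option maxHeartbeats 400000

universe u

open MvPolynomial

namespace Groth.Agent.Lefpen.H704.Cone

open LefPen Groth.Agent.Lefpen.H704

section Coord

theorem eval_smul_of_isHomogeneous {k : Type*} [CommSemiring k] {σ : Type*} {p : MvPolynomial σ k} {e : ℕ}
    (hp : p.IsHomogeneous e) (c : k) (y : σ → k) : eval (c • y) p = c ^ e * eval y p := by
  rw [eval_eq, eval_eq, Finset.mul_sum]
  refine Finset.sum_congr rfl fun d hd => ?_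
  have hde : d.degree = e := by
    by_contra hne
    exact (mem_support_iff.mp hd) (hp.coeff_eq_zero hne)
  simp only [Pi.smul_apply, smul_eq_mul, mul_pow, Finset.prod_mul_distrib, Finset.prod_pow_eq_pow_sum]
  have : ∑ i ∈ d.support, d i = e := hde
  rw [this]
  ring

variable {k : Type*} [Field k] [Infinite k]

/-- The homogeneous components of a polynomial vanishing on a cone vanish on the cone. -/
theorem eval_homogeneousComponent_eq_zero {σ : Type*} (p : MvPolynomial σ k) (y : σ → k)
    (h : ∀ c : k, c ≠ 0 → eval (c • y) p = 0) (e : ℕ) :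
    eval y (homogeneousComponent e p) = 0 := by
  classical
  by_cases he : p.totalDegree < e
  · rw [homogeneousComponent_eq_zero _ _ he, map_zero]
  let q : Polynomial k := ∑ i ∈ Finset.range (p.totalDegree + 1),
    Polynomial.monomial i (eval y (homogeneousComponent i p))
  have hq : ∀ c : k, q.eval c = eval (c • y) p := by
    intro c
    conv_rhs => rw [← sum_homogeneousComponent p]
    rw [map_sum, Polynomial.eval_finsetSum]
    refine Finset.sum_congr rfl fun i _ => ?_
    rw [Polynomial.eval_monomial,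
      eval_smul_of_isHomogeneous (homogeneousComponent_isHomogeneous i p), mul_comm]
  have hq0 : q = 0 := by
    refine Polynomial.eq_zero_of_infinite_isRoot q ?_
    refine Set.Infinite.mono (s := ({0}ᶜ : Set k)) ?_
      (Set.Finite.infinite_compl (Set.finite_singleton _))
    intro c hc
    change q.eval c = 0
    rw [hq]
    exact h c hc
  have : q.coeff e = eval y (homogeneousComponent e p) := by
    simp only [q, Polynomial.finsetSum_coeff, Polynomial.coeff_monomial]
    rw [Finset.sum_ite_eq' (Finset.range (p.totalDegree + 1)) e, if_pos]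
    simp only [Finset.mem_range]
    omega
  rw [← this, hq0, Polynomial.coeff_zero]

/-- A homogeneous polynomial which does not vanish at `(1, 0, …, 0)` has, as a polynomial in the
first variable, a unit leading coefficient. -/
theorem isUnit_leadingCoeff {k : Type*} [Field k] {m : ℕ} {p : MvPolynomial (Fin (m + 1)) k} {e : ℕ}
    (hp : p.IsHomogeneous e) (h0 : eval (Fin.cons 1 0 : Fin (m + 1) → k) p ≠ 0) :
    IsUnit (finSuccEquiv k m p).leadingCoeff := by
  have hpne : p ≠ 0 := by
    rintro rfl
    exact h0 (map_zero _)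
  have hdeg : (finSuccEquiv k m p).natDegree ≤ e := by
    rw [natDegree_finSuccEquiv]
    exact (degreeOf_le_totalDegree p 0).trans hp.totalDegree_le
  have hcoeff : ∀ i, i < e → eval 0 ((finSuccEquiv k m p).coeff i) = 0 := by
    intro i hi
    have := hp.finSuccEquiv_coeff_isHomogeneous i (e - i) (by omega)
    have h2 := this.coeff_eq_zero (d := 0) (by simp; omega)
    rw [← constantCoeff_eq] at h2
    rw [eval_zero, h2]
  have hval : eval (Fin.cons 1 0 : Fin (m + 1) → k) p = eval 0 ((finSuccEquiv k m p).coeff e) := by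
    rw [eval_eq_eval_mv_eval', Polynomial.eval_eq_sum_range' (n := e + 1)]
    · rw [Finset.sum_range_succ, Finset.sum_eq_zero, zero_add]
      · simp
      · intro i hi
        rw [Finset.mem_range] at hi
        rw [Polynomial.coeff_map]
        simp only [one_pow, mul_one]
        exact hcoeff i hi
    · refine lt_of_le_of_lt Polynomial.natDegree_map_le ?_
      omega
  have hce : ((finSuccEquiv k m p).coeff e).IsHomogeneous 0 :=
    hp.finSuccEquiv_coeff_isHomogeneous e 0 (by omega)
  obtain ⟨a, ha⟩ : ∃ a : k, (finSuccEquiv k m p).coeff e = C a := by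
    refine ⟨_, totalDegree_eq_zero_iff_eq_C.mp ?_⟩
    exact Nat.le_zero.mp hce.totalDegree_le
  have ha0 : a ≠ 0 := by
    rintro rfl
    rw [hval, ha] at h0
    simp at h0
  have hdeg' : (finSuccEquiv k m p).natDegree = e := by
    refine le_antisymm hdeg (Polynomial.le_natDegree_of_ne_zero ?_)
    rw [ha]
    simpa using ha0
  rw [Polynomial.leadingCoeff, hdeg', ha]
  exact (isUnit_iff_ne_zero.mpr ha0).map C

/-- The ideal of polynomials vanishing on `B`, in `k[x₁..x_m][t]`. -/
noncomputable def vanish {m : ℕ} (B : Set (Fin (m + 1) → k)) :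
    Ideal (Polynomial (MvPolynomial (Fin m) k)) :=
  ⨅ y : B, RingHom.ker ((eval (y : Fin (m + 1) → k)).comp
    ((finSuccEquiv k m).symm : Polynomial (MvPolynomial (Fin m) k) →+* _))

omit [Infinite k] in
theorem mem_vanish {m : ℕ} (B : Set (Fin (m + 1) → k)) (P : Polynomial (MvPolynomial (Fin m) k)) :
    P ∈ vanish B ↔ ∀ y ∈ B, eval y ((finSuccEquiv k m).symm P) = 0 := by
  simp [vanish, Submodule.mem_iInf, RingHom.mem_ker]

/-- The coordinate version of the dichotomy. -/
theorem cone_coord (m : ℕ) (B : Set (Fin (m + 1) → k))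
    (hB : ∀ x, x ∉ B → ∃ p : MvPolynomial (Fin (m + 1)) k, eval x p ≠ 0 ∧ ∀ y ∈ B, eval y p = 0)
    (hcone : ∀ c : k, c ≠ 0 → ∀ x ∈ B, c • x ∈ B)
    (h0 : (Fin.cons 1 0 : Fin (m + 1) → k) ∉ B) :
    (∃ q : MvPolynomial (Fin m) k, q ≠ 0 ∧ ∀ x ∈ B, eval (Fin.tail x) q = 0) ∨
    (∃ g : MvPolynomial (Fin (m + 1)) k, (∀ c, g ≠ C c) ∧ ∀ x, eval x g = 0 → x ∈ B) := by
  obtain ⟨p, hp0, hpB⟩ := hB _ h0
  obtain ⟨e, he⟩ : ∃ e, eval (Fin.cons 1 0 : Fin (m + 1) → k) (homogeneousComponent e p) ≠ 0 := by
    by_contra hcon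
    push Not at hcon
    apply hp0
    rw [← sum_homogeneousComponent p, map_sum]
    exact Finset.sum_eq_zero fun i _ => hcon i
  have hF : finSuccEquiv k m (homogeneousComponent e p) ∈ vanish B := by
    rw [mem_vanish]
    intro y hy
    rw [AlgEquiv.symm_apply_apply]
    exact eval_homogeneousComponent_eq_zero p y (fun c hc => hpB _ (hcone c hc y hy)) e
  rcases Dichotomy.dichotomy (vanish B) _ hF
    (isUnit_leadingCoeff (homogeneousComponent_isHomogeneous e p) he) with
    ⟨c, hc, hcB⟩ | ⟨f, hf, hfu, -, hfB⟩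
  · left
    refine ⟨c, hc, fun x hx => ?_⟩
    rw [mem_vanish] at hcB
    have h1 := hcB x hx
    rw [← Fin.cons_self_tail x, eval_eq_eval_mv_eval', AlgEquiv.apply_symm_apply] at h1
    simpa using h1
  · right
    refine ⟨(finSuccEquiv k m).symm f, ?_, ?_⟩
    · intro c hc
      have : f = finSuccEquiv k m (C c) := by
        rw [← hc, AlgEquiv.apply_symm_apply]
      have h2 := Dichotomy.natDegree_pos hf hfu
      rw [this, natDegree_finSuccEquiv] at h2
      simp at h2
    · intro x hx
      by_contra hxB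
      obtain ⟨p, hp, hpB⟩ := hB x hxB
      have : finSuccEquiv k m p ∈ vanish B := by
        rw [mem_vanish]
        intro y hy
        rw [AlgEquiv.symm_apply_apply]
        exact hpB y hy
      have h3 := hfB this
      rw [Ideal.mem_span_singleton] at h3
      obtain ⟨q, hq⟩ := h3
      have h4 : p = (finSuccEquiv k m).symm f * (finSuccEquiv k m).symm q := by
        rw [← map_mul, ← hq, AlgEquiv.symm_apply_apply]
      apply hp
      rw [h4, map_mul, hx, zero_mul]

end Coord

section Main

variable {k : Type u} [Field k] [IsAlgClosed k] {V : Type u} [AddCommGroup V] [Module k V]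
  [FiniteDimensional k V]

omit [IsAlgClosed k] in
/-- A basis starting with a given nonzero vector. -/
theorem exists_basis_zero_eq (H₀ : V) (h : H₀ ≠ 0) :
    ∃ (m : ℕ) (b : Module.Basis (Fin (m + 1)) k V), b 0 = H₀ := by
  obtain ⟨N, hN⟩ := Submodule.exists_isCompl (Submodule.span k {H₀})
  let b := Module.finBasis k N
  refine ⟨_, Module.Basis.mkFinCons H₀ b ?_ ?_, ?_⟩
  · intro c x hx hcx
    by_contra hc
    apply h
    have h1 : x ∈ Submodule.span k {H₀} := by
      rw [Submodule.mem_span_singleton]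
      refine ⟨-c, ?_⟩
      rw [neg_smul]
      exact (eq_neg_of_add_eq_zero_right hcx).symm
    have h2 : x = 0 := by
      have := hN.disjoint.le_bot (show x ∈ Submodule.span k {H₀} ⊓ N from ⟨h1, hx⟩)
      simpa using this
    rw [h2, add_zero, smul_eq_zero] at hcx
    exact hcx.resolve_left hc
  · intro z
    have hz : z ∈ Submodule.span k {H₀} ⊔ N := by
      rw [hN.sup_eq_top]
      trivial
    rw [Submodule.mem_sup] at hz
    obtain ⟨y, hy, x, hx, rfl⟩ := hz
    rw [Submodule.mem_span_singleton] at hy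
    obtain ⟨c, rfl⟩ := hy
    refine ⟨-c, ?_⟩
    rwa [neg_smul, add_neg_cancel_comm]
  · rw [Module.Basis.coe_mkFinCons]
    simp

/-- A polynomial function `g` on `V` whose zero set lies in a set `B` missed by the lines
`F + c G`, for generic `(F, G)`, is constant. -/
theorem const_of_generic_line {B : Set V} {g : V → k} (hg : IsPolyFun k g)
    (hgB : ∀ v, g v = 0 → v ∈ B)
    (hgen : IsGeneric k {FG : V × V | ∀ c : k, FG.1 + c • FG.2 ∉ B}) (v w : V) : g v = g w := by
  obtain ⟨P, hP, ⟨p₀, hp₀⟩, hPB⟩ := hgen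
  have key : ∀ FG : V × V, P FG * (g (FG.1 + FG.2) - g FG.1) = 0 := by
    intro FG
    by_cases hPFG : P FG = 0
    · rw [hPFG, zero_mul]
    obtain ⟨q, hq⟩ := PolyFun.isPolyFun_line hg FG.1 FG.2
    have hroot : ∀ c : k, q.eval c ≠ 0 := by
      intro c hc
      rw [← hq] at hc
      exact hPB FG hPFG c (hgB _ hc)
    have hdeg : q.degree ≤ 0 := by
      by_contra hcon
      push Not at hcon
      obtain ⟨c, hc⟩ := IsAlgClosed.exists_root q hcon.ne'
      exact hroot c hc
    rw [Polynomial.eq_C_of_degree_le_zero hdeg] at hq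
    have h0 := hq 0
    have h1 := hq 1
    simp only [zero_smul, add_zero, one_smul, Polynomial.eval_C] at h0 h1
    rw [h0, h1, sub_self, mul_zero]
  have hpoly : IsPolyFun k (fun FG : V × V => g (FG.1 + FG.2) - g FG.1) :=
    PolyFun.isPolyFun_sub
      (PolyFun.isPolyFun_comp_linear (LinearMap.fst k V V + LinearMap.snd k V V) hg)
      (PolyFun.isPolyFun_comp_linear (LinearMap.fst k V V) hg)
  rcases PolyFun.isPolyFun_mul_eq_zero hP hpoly key with h | h
  · exact absurd (h p₀) hp₀
  · have := h (v, w - v)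
    simp only [add_sub_cancel] at this
    exact (sub_eq_zero.mp this).symm

/-- The cone lemma. -/
theorem cone_generic (B : Set V) (hB : IsZOpen k Bᶜ)
    (hcone : ∀ c : k, c ≠ 0 → ∀ x ∈ B, c • x ∈ B) (H₀ : V) (h0 : H₀ ∉ B)
    (hgen : IsGeneric k {FG : V × V | ∀ c : k, FG.1 + c • FG.2 ∉ B}) :
    IsGeneric k {G : V | ∀ c : k, G + c • H₀ ∉ B} := by
  by_cases hH : H₀ = 0
  · subst hH
    refine PolyFun.isGeneric_mono ?_ (PolyFun.isGeneric_of_isZOpen hB ⟨_, h0⟩)
    intro G hG c
    rw [smul_zero, add_zero]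
    exact hG
  obtain ⟨m, b, hb⟩ := exists_basis_zero_eq (k := k) H₀ hH
  let B' : Set (Fin (m + 1) → k) := {x | b.equivFun.symm x ∈ B}
  have hb0 : b.equivFun.symm (Fin.cons 1 0) = H₀ := by
    rw [Module.Basis.equivFun_symm_apply, Fin.sum_univ_succ]
    simp [hb]
  have hB' : ∀ x, x ∉ B' →
      ∃ p : MvPolynomial (Fin (m + 1)) k, eval x p ≠ 0 ∧ ∀ y ∈ B', eval y p = 0 := by
    intro x hx
    obtain ⟨f, hf, hfx, hfB⟩ := hB (b.equivFun.symm x) hx
    obtain ⟨p, hp⟩ := PolyFun.exists_mvPolynomial b hf
    refine ⟨p, ?_, ?_⟩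
    · rw [hp, LinearEquiv.apply_symm_apply] at hfx
      exact hfx
    · intro y hy
      by_contra hcon
      apply hfB (b.equivFun.symm y) ?_ hy
      rwa [hp, LinearEquiv.apply_symm_apply]
  have hcone' : ∀ c : k, c ≠ 0 → ∀ x ∈ B', c • x ∈ B' := by
    intro c hc x hx
    change b.equivFun.symm (c • x) ∈ B
    rw [map_smul]
    exact hcone c hc _ hx
  have h0' : (Fin.cons 1 0 : Fin (m + 1) → k) ∉ B' := by
    change ¬ (b.equivFun.symm (Fin.cons 1 0) ∈ B)
    rwa [hb0]
  have : Infinite k := IsAlgClosed.instInfinite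
  rcases cone_coord m B' hB' hcone' h0' with ⟨q, hq, hqB⟩ | ⟨g, hg, hgB⟩
  · have htail : ∀ G : V, Fin.tail (b.equivFun G) = fun i => (b.coord i.succ) G := by
      intro G
      funext i
      rw [Module.Basis.coord_apply, Fin.tail, Module.Basis.equivFun_apply]
    refine ⟨fun G => eval (fun i => (b.coord i.succ) G) q, ?_, ?_, ?_⟩
    · have hq1 := PolyFun.isPolyFun_of_mvPolynomial (fun i : Fin m => b.coord i.succ) q
      exact hq1
    · by_contra hcon
      push Not at hcon
      apply hq
      apply MvPolynomial.funext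
      intro x
      have := hcon (b.equivFun.symm (Fin.cons 0 x))
      rw [← htail, LinearEquiv.apply_symm_apply, Fin.tail_cons] at this
      rw [this, map_zero]
    · intro G hG c hc
      apply hG
      have hmem : b.equivFun (G + c • H₀) ∈ B' := by
        change b.equivFun.symm (b.equivFun (G + c • H₀)) ∈ B
        rwa [LinearEquiv.symm_apply_apply]
      have h1 := hqB _ hmem
      have h2 : Fin.tail (b.equivFun (G + c • H₀)) = Fin.tail (b.equivFun G) := by
        rw [← hb0, map_add, map_smul, LinearEquiv.apply_symm_apply]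
        funext i
        simp [Fin.tail]
      rwa [h2, htail] at h1
  · exfalso
    have hgV : IsPolyFun k (fun v => eval (b.equivFun v) g) := PolyFun.isPolyFun_of_basis b g
    have hconst := const_of_generic_line (B := B) hgV (by
      intro v hv
      have := hgB _ hv
      change b.equivFun.symm (b.equivFun v) ∈ B at this
      rwa [LinearEquiv.symm_apply_apply] at this) hgen
    apply hg (eval 0 g)
    apply MvPolynomial.funext
    intro x
    have := hconst (b.equivFun.symm x) 0
    simp only [LinearEquiv.apply_symm_apply, map_zero] at this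
    rw [this, eval_C]

/-- The cone lemma, in the form used for pencils. -/
theorem cone_generic_pencil (B : Set V) (hB : IsZOpen k Bᶜ)
    (hcone : ∀ c : k, c ≠ 0 → ∀ x ∈ B, c • x ∈ B) (H₀ : V) (h0 : H₀ ∉ B)
    (hgen : IsGeneric k {FG : V × V | ∀ c : k, FG.1 + c • FG.2 ∉ B}) :
    IsGeneric k {G : V | G ∉ B ∧ ∀ c : k, H₀ + c • G ∉ B} := by
  refine PolyFun.isGeneric_mono ?_ (cone_generic B hB hcone H₀ h0 hgen)
  intro G hG
  refine ⟨?_, ?_⟩
  · have := hG 0
    rwa [zero_smul, add_zero] at this
  · intro c hc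
    by_cases hc0 : c = 0
    · rw [hc0, zero_smul, add_zero] at hc
      exact h0 hc
    · apply hG c⁻¹
      have := hcone c⁻¹ (inv_ne_zero hc0) _ hc
      rwa [smul_add, smul_smul, inv_mul_cancel₀ hc0, one_smul, add_comm] at this

end Main

end Groth.Agent.Lefpen.H704.Cone
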