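import Groth.Prelude.Def_LefPen
import Mathlib.Algebra.MvPolynomial.Funext
import Mathlib.LinearAlgebra.Basis.VectorSpace
import Mathlib.LinearAlgebra.FiniteDimensional.Defs
import Mathlib.LinearAlgebra.FiniteDimensional.Lemmas

/-!
# Polynomial functions on a vector space: small API for `LefPen.IsPolyFun`, `IsGeneric`, `IsZOpen`
-/

set_option autoImplicit false

universe u

namespace Groth.Agent.Lefpen.H704.PolyFun

open LefPen

variable {k : Type u} [Field k]
variable {V W : Type u} [AddCommGroup V] [Module k V] [AddCommGroup W] [Module k W]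

theorem isPolyFun_const (c : k) : IsPolyFun k (fun _ : V => c) :=
  (Algebra.adjoin k (Set.range (fun l : Module.Dual k V => (l : V → k)))).algebraMap_mem c

theorem isPolyFun_dual (l : Module.Dual k V) : IsPolyFun k (fun v : V => l v) :=
  Algebra.subset_adjoin ⟨l, rfl⟩

theorem isPolyFun_mul {f g : V → k} (hf : IsPolyFun k f) (hg : IsPolyFun k g) :
    IsPolyFun k (fun v => f v * g v) :=
  (Algebra.adjoin k (Set.range (fun l : Module.Dual k V => (l : V → k)))).mul_mem hf hg

theorem isPolyFun_add {f g : V → k} (hf : IsPolyFun k f) (hg : IsPolyFun k g) :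
    IsPolyFun k (fun v => f v + g v) :=
  (Algebra.adjoin k (Set.range (fun l : Module.Dual k V => (l : V → k)))).add_mem hf hg

theorem isPolyFun_sub {f g : V → k} (hf : IsPolyFun k f) (hg : IsPolyFun k g) :
    IsPolyFun k (fun v => f v - g v) :=
  (Algebra.adjoin k (Set.range (fun l : Module.Dual k V => (l : V → k)))).sub_mem hf hg

theorem isPolyFun_smul (c : k) {f : V → k} (hf : IsPolyFun k f) :
    IsPolyFun k (fun v => c * f v) :=
  isPolyFun_mul (isPolyFun_const c) hf

/-- Induction principle for polynomial functions. -/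
theorem isPolyFun_induction {P : (V → k) → Prop} (hc : ∀ c : k, P (fun _ => c))
    (hl : ∀ l : Module.Dual k V, P (fun v => l v))
    (hadd : ∀ f g : V → k, P f → P g → P (fun v => f v + g v))
    (hmul : ∀ f g : V → k, P f → P g → P (fun v => f v * g v))
    {f : V → k} (hf : IsPolyFun k f) : P f := by
  refine Algebra.adjoin_induction (p := fun g _ => P g) ?_ ?_ ?_ ?_ hf
  · rintro _ ⟨l, rfl⟩
    exact hl l
  · intro c
    exact hc c
  · intro f g _ _ hf hg
    exact hadd f g hf hg
  · intro f g _ _ hf hg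
    exact hmul f g hf hg

/-- Precomposition with a linear map. -/
theorem isPolyFun_comp_linear (L : V →ₗ[k] W) {f : W → k} (hf : IsPolyFun k f) :
    IsPolyFun k (fun v => f (L v)) := by
  refine isPolyFun_induction (P := fun f => IsPolyFun k (fun v => f (L v))) ?_ ?_ ?_ ?_ hf
  · exact fun c => isPolyFun_const c
  · exact fun l => isPolyFun_dual (l ∘ₗ L)
  · exact fun f g hf hg => isPolyFun_add hf hg
  · exact fun f g hf hg => isPolyFun_mul hf hg

/-- Precomposition with a linear map followed by a translation. -/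
theorem isPolyFun_comp_affine (L : V →ₗ[k] W) (a : W) {f : W → k} (hf : IsPolyFun k f) :
    IsPolyFun k (fun v => f (L v + a)) := by
  refine isPolyFun_induction (P := fun f => IsPolyFun k (fun v => f (L v + a))) ?_ ?_ ?_ ?_ hf
  · exact fun c => isPolyFun_const c
  · intro l
    have : (fun v => l (L v + a)) = (fun v => (l ∘ₗ L) v + l a) := by
      funext v
      simp
    rw [this]
    exact isPolyFun_add (isPolyFun_dual _) (isPolyFun_const _)
  · exact fun f g hf hg => isPolyFun_add hf hg
  · exact fun f g hf hg => isPolyFun_mul hf hg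

/-- The restriction of a polynomial function to a line is a polynomial. -/
theorem isPolyFun_line {f : V → k} (hf : IsPolyFun k f) (v w : V) :
    ∃ q : Polynomial k, ∀ c : k, f (v + c • w) = q.eval c := by
  refine isPolyFun_induction
    (P := fun f => ∃ q : Polynomial k, ∀ c : k, f (v + c • w) = q.eval c) ?_ ?_ ?_ ?_ hf
  · exact fun c => ⟨Polynomial.C c, fun _ => by simp⟩
  · intro l
    refine ⟨Polynomial.C (l v) + Polynomial.C (l w) * Polynomial.X, fun c => ?_⟩
    simp only [map_add, map_smul, smul_eq_mul, Polynomial.eval_add, Polynomial.eval_C,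
      Polynomial.eval_mul, Polynomial.eval_X]
    rw [mul_comm]
  · rintro f g ⟨p, hp⟩ ⟨q, hq⟩
    exact ⟨p + q, fun c => by simp [hp, hq]⟩
  · rintro f g ⟨p, hp⟩ ⟨q, hq⟩
    exact ⟨p * q, fun c => by simp [hp, hq]⟩

/-- Polynomial functions are the evaluations of polynomials in the coordinates of a basis. -/
theorem exists_mvPolynomial {ι : Type*} [Fintype ι] (b : Module.Basis ι k V) {f : V → k}
    (hf : IsPolyFun k f) : ∃ p : MvPolynomial ι k, ∀ v, f v = MvPolynomial.eval (b.equivFun v) p := by
  refine isPolyFun_induction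
    (P := fun f => ∃ p : MvPolynomial ι k, ∀ v, f v = MvPolynomial.eval (b.equivFun v) p)
    ?_ ?_ ?_ ?_ hf
  · exact fun c => ⟨MvPolynomial.C c, fun _ => by simp⟩
  · intro l
    refine ⟨∑ i, MvPolynomial.C (l (b i)) * MvPolynomial.X i, fun v => ?_⟩
    have h := congrArg l (b.sum_equivFun v)
    beta_reduce
    rw [← h, map_sum, map_sum]
    refine Finset.sum_congr rfl fun i _ => ?_
    simp only [map_smul, smul_eq_mul, map_mul, MvPolynomial.eval_C, MvPolynomial.eval_X]
    rw [mul_comm]
  · rintro f g ⟨p, hp⟩ ⟨q, hq⟩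
    exact ⟨p + q, fun c => by simp [hp, hq]⟩
  · rintro f g ⟨p, hp⟩ ⟨q, hq⟩
    exact ⟨p * q, fun c => by simp [hp, hq]⟩

theorem isPolyFun_of_mvPolynomial {ι : Type*} (L : ι → Module.Dual k V)
    (p : MvPolynomial ι k) : IsPolyFun k (fun v => MvPolynomial.eval (fun i => L i v) p) := by
  induction p using MvPolynomial.induction_on with
  | C a => simpa using isPolyFun_const a
  | add p q hp hq => simpa using isPolyFun_add hp hq
  | mul_X p i hp => simpa using isPolyFun_mul hp (isPolyFun_dual (L i))

theorem isPolyFun_of_basis {ι : Type*} [Fintype ι] (b : Module.Basis ι k V)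
    (p : MvPolynomial ι k) : IsPolyFun k (fun v => MvPolynomial.eval (b.equivFun v) p) :=
  isPolyFun_of_mvPolynomial (fun i => b.coord i) p

/-- Over an infinite field, the polynomial functions on a finite-dimensional space form a domain. -/
theorem isPolyFun_mul_eq_zero [Infinite k] [FiniteDimensional k V] {f g : V → k}
    (hf : IsPolyFun k f) (hg : IsPolyFun k g) (h : ∀ v, f v * g v = 0) :
    (∀ v, f v = 0) ∨ (∀ v, g v = 0) := by
  classical
  let b := Module.finBasis k V
  obtain ⟨p, hp⟩ := exists_mvPolynomial b hf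
  obtain ⟨q, hq⟩ := exists_mvPolynomial b hg
  have hpq : p * q = 0 := by
    apply MvPolynomial.funext
    intro x
    obtain ⟨v, rfl⟩ := b.equivFun.surjective x
    rw [map_mul, map_zero, ← hp, ← hq, h]
  rcases mul_eq_zero.mp hpq with h0 | h0
  · left
    intro v
    rw [hp, h0, map_zero]
  · right
    intro v
    rw [hq, h0, map_zero]

/-- Finite intersections of generic sets are generic. -/
theorem isGeneric_inter [Infinite k] [FiniteDimensional k V] {S T : Set V}
    (hS : IsGeneric k S) (hT : IsGeneric k T) : IsGeneric k (S ∩ T) := by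
  obtain ⟨f, hf, ⟨v, hv⟩, hfS⟩ := hS
  obtain ⟨g, hg, ⟨w, hw⟩, hgT⟩ := hT
  refine ⟨fun v => f v * g v, isPolyFun_mul hf hg, ?_, fun x hx =>
    ⟨hfS x (left_ne_zero_of_mul hx), hgT x (right_ne_zero_of_mul hx)⟩⟩
  by_contra hcon
  push Not at hcon
  rcases isPolyFun_mul_eq_zero hf hg hcon with h | h
  · exact hv (h v)
  · exact hw (h w)

theorem isGeneric_mono {S T : Set V} (h : S ⊆ T) (hS : IsGeneric k S) : IsGeneric k T := by
  obtain ⟨f, hf, hv, hfS⟩ := hS
  exact ⟨f, hf, hv, fun v hv => h (hfS v hv)⟩

theorem isGeneric_nonempty {S : Set V} (hS : IsGeneric k S) : S.Nonempty := by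
  obtain ⟨f, _, ⟨v, hv⟩, hfS⟩ := hS
  exact ⟨v, hfS v hv⟩

theorem isGeneric_of_isZOpen {S : Set V} (hS : IsZOpen k S) (hne : S.Nonempty) :
    IsGeneric k S := by
  obtain ⟨v, hv⟩ := hne
  obtain ⟨f, hf, hfv, hfS⟩ := hS v hv
  exact ⟨f, hf, ⟨v, hfv⟩, hfS⟩

/-- For `S` Zariski open containing `F`, all but finitely many points of a line `F + c G` lie
in `S`. -/
theorem finite_line_of_isZOpen {S : Set V} (hS : IsZOpen k S) {F : V} (hF : F ∈ S) (G : V) :
    {c : k | F + c • G ∉ S}.Finite := by
  obtain ⟨f, hf, hfF, hfS⟩ := hS F hF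
  obtain ⟨q, hq⟩ := isPolyFun_line hf F G
  have hq0 : q ≠ 0 := by
    rintro rfl
    apply hfF
    have := hq 0
    simpa using this
  refine (Polynomial.finite_setOfPred_isRoot hq0).subset ?_
  intro c hc
  by_contra hcon
  apply hc
  apply hfS
  rw [hq]
  exact hcon

end Groth.Agent.Lefpen.H704.PolyFun
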