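import Mathlib.AlgebraicGeometry.Morphisms.Smooth
import Mathlib.AlgebraicGeometry.Morphisms.UniversallyClosed

/-!
# The locus where a morphism is smooth of relative dimension `m`

* `smOpen m π : Z.Opens`, `mem_smOpen`, `smooth_smOpen`, `smooth_of_le`, `smooth_iff`.
* `goodOpen m π : T.Opens` for `π : Z ⟶ T` universally closed: the points of `T` over which all points of `Z` are
  in the smooth locus of relative dimension `m`; `smooth_restrict`: `π` is smooth of relative dimension `m` over it.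
-/

set_option autoImplicit false
universe u

open CategoryTheory AlgebraicGeometry Limits TopologicalSpace Opposite

namespace Groth.Agent.Lefpen.H704.RelLocus

variable {Z T : Scheme.{u}} (m : ℕ) (π : Z ⟶ T)

theorem smooth_of_appLE (U : T.Opens) (hU : IsAffineOpen U) (V : Z.Opens) (hV : IsAffineOpen V) (e : V ≤ π ⁻¹ᵁ U)
    (h : RingHom.IsStandardSmoothOfRelativeDimension m (π.appLE U V e).hom) :
    SmoothOfRelativeDimension m (V.ι ≫ π) := by
  have hVa : IsAffine V := hV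
  rw [smoothOfRelativeDimension_iff]
  intro x
  have hle : (⊤ : V.toScheme.Opens) ≤ V.ι ⁻¹ᵁ V := by simp
  refine ⟨U, hU, ⊤, isAffineOpen_top _, trivial, ?_, ?_⟩
  · refine hle.trans ?_
    exact fun y hy => e hy
  · have e1 : V.ι ''ᵁ ⊤ = V := by simp
    have e2 : IsIso (V.ι.appLE V ⊤ hle) := by
      rw [Scheme.Opens.ι_appLE]
      have : (homOfLE (le_of_eq e1) : V.ι ''ᵁ ⊤ ⟶ V) = eqToHom e1 := rfl
      rw [this]
      have : IsIso (eqToHom e1).op := inferInstance
      exact Functor.map_isIso _ _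
    rw [← Scheme.Hom.appLE_comp_appLE V.ι π U V ⊤ e hle, CommRingCat.hom_comp]
    have h5 := (RingHom.IsStandardSmoothOfRelativeDimension.equiv
      (asIso (V.ι.appLE V ⊤ hle)).commRingCatIsoToRingEquiv).comp h
    have h6 : 0 + m = m := zero_add m
    rw [h6] at h5
    exact h5

theorem smooth_of_le {V W : Z.Opens} (h : W ≤ V) (hV : SmoothOfRelativeDimension m (V.ι ≫ π)) :
    SmoothOfRelativeDimension m (W.ι ≫ π) := by
  have h1 : W.ι ≫ π = Z.homOfLE h ≫ V.ι ≫ π := by
    rw [Scheme.homOfLE_ι_assoc]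
  rw [h1]
  exact IsZariskiLocalAtSource.comp (P := @SmoothOfRelativeDimension m) hV (Z.homOfLE h)

/-- The open set where `π` is smooth of relative dimension `m`. -/
noncomputable def smOpen : Z.Opens :=
  ⨆ V : {V : Z.Opens // SmoothOfRelativeDimension m (V.ι ≫ π)}, V.1

theorem mem_smOpen (z : Z) : z ∈ smOpen m π ↔ ∃ V : Z.Opens, z ∈ V ∧ SmoothOfRelativeDimension m (V.ι ≫ π) := by
  unfold smOpen
  rw [Opens.mem_iSup]
  exact ⟨fun ⟨V, hV⟩ => ⟨V.1, hV, V.2⟩, fun ⟨V, h1, h2⟩ => ⟨⟨V, h2⟩, h1⟩⟩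

theorem smooth_of_forall_mem (W : Z.Opens) (h : ∀ z ∈ W, z ∈ smOpen m π) :
    SmoothOfRelativeDimension m (W.ι ≫ π) := by
  let ι := {V : Z.Opens // SmoothOfRelativeDimension m (V.ι ≫ π)}
  have htop : iSup (fun V : ι => W.ι ⁻¹ᵁ V.1) = ⊤ := by
    rw [eq_top_iff]
    intro z _
    obtain ⟨V, hzV, hV⟩ := (mem_smOpen m π _).1 (h z.1 z.2)
    exact Opens.mem_iSup.2 ⟨⟨V, hV⟩, hzV⟩
  refine IsZariskiLocalAtSource.of_iSup_eq_top (P := @SmoothOfRelativeDimension m) (fun V : ι => W.ι ⁻¹ᵁ V.1) htop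
    fun V => ?_
  have hle : (W ⊓ V.1) ≤ V.1 := inf_le_right
  have h2 := smooth_of_le m π hle V.2
  have h3 : W.ι ⁻¹ᵁ (W ⊓ V.1) = W.ι ⁻¹ᵁ V.1 := by
    ext z
    exact ⟨fun hz => hz.2, fun hz => ⟨z.2, hz⟩⟩
  have h4 : ((W.ι ⁻¹ᵁ V.1).ι ≫ W.ι ≫ π) = (IsOpenImmersion.lift (V.1.ι) ((W.ι ⁻¹ᵁ V.1).ι ≫ W.ι) (by
      rintro _ ⟨z, rfl⟩
      simp only [Scheme.Opens.range_ι]
      exact z.2)) ≫ V.1.ι ≫ π := by
    rw [IsOpenImmersion.lift_fac_assoc, Category.assoc]
  rw [h4]
  have h5 : IsOpenImmersion (IsOpenImmersion.lift (V.1.ι) ((W.ι ⁻¹ᵁ V.1).ι ≫ W.ι) (by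
      rintro _ ⟨z, rfl⟩
      simp only [Scheme.Opens.range_ι]
      exact z.2)) := by
    refine @IsOpenImmersion.of_comp _ _ _ _ V.1.ι _ ?_
    rw [IsOpenImmersion.lift_fac]
    infer_instance
  exact IsZariskiLocalAtSource.comp (P := @SmoothOfRelativeDimension m) V.2 _

theorem smooth_smOpen : SmoothOfRelativeDimension m ((smOpen m π).ι ≫ π) :=
  smooth_of_forall_mem m π _ fun _ h => h

theorem smooth_iff : SmoothOfRelativeDimension m π ↔ ∀ z, z ∈ smOpen m π := by
  constructor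
  · intro h z
    refine (mem_smOpen m π z).2 ⟨⊤, trivial, ?_⟩
    exact IsZariskiLocalAtSource.comp (P := @SmoothOfRelativeDimension m) h _
  · intro h
    let ι := {V : Z.Opens // SmoothOfRelativeDimension m (V.ι ≫ π)}
    refine IsZariskiLocalAtSource.of_iSup_eq_top (P := @SmoothOfRelativeDimension m) (fun V : ι => V.1) ?_
      fun V => V.2
    rw [eq_top_iff]
    exact fun z _ => h z

/-- The points of the base over which everything is in the smooth locus of relative dimension `m`. -/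
noncomputable def goodOpen [UniversallyClosed π] : T.Opens where
  carrier := {t | ∀ z : Z, π z = t → z ∈ smOpen m π}
  is_open' := by
    have h1 : IsClosed (π '' ((smOpen m π : Set Z)ᶜ)) :=
      (π.isClosedMap) _ (smOpen m π).isOpen.isClosed_compl
    have h2 : {t | ∀ z : Z, π z = t → z ∈ smOpen m π} = (π '' ((smOpen m π : Set Z)ᶜ))ᶜ := by
      ext t
      simp only [Set.mem_ofPred_eq, Set.mem_compl_iff, Set.mem_image, not_exists, not_and, SetLike.mem_coe]
      exact ⟨fun h z hz hzt => hz (h z hzt), fun h z hzt => by_contra fun hz => h z hz hzt⟩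
    rw [h2]
    exact h1.isOpen_compl

theorem mem_goodOpen [UniversallyClosed π] (t : T) :
    t ∈ goodOpen m π ↔ ∀ z : Z, π z = t → z ∈ smOpen m π := Iff.rfl

theorem smooth_restrict_of_forall (U : T.Opens) (h : ∀ z : Z, π z ∈ U → z ∈ smOpen m π) :
    SmoothOfRelativeDimension m (π ∣_ U) := by
  have h1 := smooth_of_forall_mem m π (π ⁻¹ᵁ U) fun z hz => h z hz
  have h2 : SmoothOfRelativeDimension m ((π ∣_ U) ≫ U.ι) := by
    rw [morphismRestrict_ι]
    exact h1
  have := smoothOfRelativeDimension_isStableUnderBaseChange m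
  exact MorphismProperty.of_postcomp (W := @SmoothOfRelativeDimension m) (W' := @IsOpenImmersion) (π ∣_ U) U.ι
    inferInstance h2

theorem mem_smOpen_of_away (V : T.Opens) (hV : IsAffineOpen V) (U : Z.Opens)
    (hU : IsAffineOpen U) (e : U ≤ π ⁻¹ᵁ V) (z : Z) (f : Γ(Z, U)) (hf : z ∈ Z.basicOpen f)
    (hst : letI := (π.appLE V U e).hom.toAlgebra
      Algebra.IsStandardSmoothOfRelativeDimension m Γ(T, V) (Localization.Away f)) : z ∈ smOpen m π := by
  refine (mem_smOpen m π z).2 ⟨Z.basicOpen f, hf, ?_⟩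
  have e' : Z.basicOpen f ≤ π ⁻¹ᵁ V := (Z.basicOpen_le f).trans e
  refine smooth_of_appLE m π V hV (Z.basicOpen f) (hU.basicOpen f) e' ?_
  let _ := (π.appLE V U e).hom.toAlgebra
  let _ := (π.appLE V (Z.basicOpen f) e').hom.toAlgebra
  have hloc : IsLocalization.Away f Γ(Z, Z.basicOpen f) := hU.isLocalization_basicOpen f
  have htower : IsScalarTower Γ(T, V) Γ(Z, U) Γ(Z, Z.basicOpen f) := by
    refine IsScalarTower.of_algebraMap_eq fun a => ?_
    change (π.appLE V (Z.basicOpen f) e').hom a = (Z.presheaf.map _).hom ((π.appLE V U e).hom a)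
    rw [← CommRingCat.comp_apply, Scheme.Hom.appLE_map]
  let ε : Localization.Away f ≃ₐ[Γ(Z, U)] Γ(Z, Z.basicOpen f) :=
    IsLocalization.algEquiv (Submonoid.powers f) _ _
  let ε' : Localization.Away f ≃ₐ[Γ(T, V)] Γ(Z, Z.basicOpen f) := ε.restrictScalars Γ(T, V)
  have h2 : Algebra.IsStandardSmoothOfRelativeDimension m Γ(T, V) Γ(Z, Z.basicOpen f) :=
    Algebra.IsStandardSmoothOfRelativeDimension.of_algEquiv m ε'
  exact h2

end Groth.Agent.Lefpen.H704.RelLocus
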